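import Mathlib
import Cfsg.Agent.Lib.Helper3.Zass.ZhDefs

set_option autoImplicit false

/-!
# ZASS (S0690), package [ZH-MU]: two distinct non-adjacent points have four common neighbours
-/

namespace Cfsg.Agent.Lib.Helper66.Zass

open Cfsg.Agent.Lib.Helper51.Zass Cfsg.Agent.Lib.Helper3.Zass

universe u

/-- a point has 3 elements, so `P ⊔ P` does not have 24. -/
theorem sup_self_card_ne {G : Type u} [Group G] (P : Subgroup G) (hP : Nat.card P = 3) :
    Nat.card ↥(P ⊔ P) ≠ 24 := by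
  rw [sup_idem, hP]; norm_num

/-- adjacent points span a line. -/
theorem isLine_of_adj {G : Type u} [Group G] (geo : Geo G) (P R : Subgroup G)
    (hP : Nat.card P = 3) (hR : Nat.card R = 3) (h : Nat.card ↥(P ⊔ R) = 24) :
    P ≠ R ∧ IsLine (P ⊔ R) := by
  have hne : P ≠ R := by
    rintro rfl
    exact sup_self_card_ne P hP h
  refine ⟨hne, ?_⟩
  rcases geo.pair P R hP hR hne with h1 | h1
  · exact h1
  · exfalso
    have := geo.planeCard _ h1
    omega

/-- distinct non-adjacent points span a plane. -/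
theorem isPlane_of_not_adj {G : Type u} [Group G] (geo : Geo G) (P Q : Subgroup G)
    (hP : Nat.card P = 3) (hQ : Nat.card Q = 3) (hne : P ≠ Q) (h : Nat.card ↥(P ⊔ Q) ≠ 24) :
    IsPlane (P ⊔ Q) := by
  rcases geo.pair P Q hP hQ hne with h1 | h1
  · exact absurd (geo.lineCard _ h1) h
  · exact h1

/-- a common neighbour of two distinct non-adjacent points lies in their plane. -/
theorem common_nbr_le_plane {G : Type u} [Group G] [Finite G] (geo : Geo G) (P Q R : Subgroup G)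
    (hP : Nat.card P = 3) (hQ : Nat.card Q = 3) (hR : Nat.card R = 3) (hne : P ≠ Q)
    (h : Nat.card ↥(P ⊔ Q) ≠ 24) (hPR : Nat.card ↥(P ⊔ R) = 24) (hQR : Nat.card ↥(Q ⊔ R) = 24) :
    R ≤ P ⊔ Q := by
  have hPl := isPlane_of_not_adj geo P Q hP hQ hne h
  obtain ⟨-, hL1⟩ := isLine_of_adj geo P R hP hR hPR
  obtain ⟨-, hL2⟩ := isLine_of_adj geo Q R hQ hR hQR
  have hdist : P ⊔ R ≠ Q ⊔ R := by
    intro heq
    have h1 := geo.lineGen (P ⊔ R) P Q hL1 hP hQ le_sup_left (heq ▸ le_sup_left) hne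
    rw [h1] at h
    exact h hPR
  have hbig := geo.t1 R (P ⊔ R) (Q ⊔ R) hR hL1 hL2 le_sup_right le_sup_right hdist
  have hle : P ⊔ Q ≤ (P ⊔ R) ⊔ (Q ⊔ R) :=
    sup_le (le_sup_left.trans le_sup_left) (le_sup_left.trans le_sup_right)
  have heq : P ⊔ Q = (P ⊔ R) ⊔ (Q ⊔ R) := by
    apply Subgroup.eq_of_le_of_card_ge hle
    rw [geo.planeCard _ hbig, geo.planeCard _ hPl]
  rw [heq]
  exact le_sup_right.trans le_sup_left

/-- **[ZH-MU]** -/
theorem pkgZhMu : PkgZhMu.{u} := by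
  intro G _ _ geo P Q hP hQ hne h
  have hPl := isPlane_of_not_adj geo P Q hP hQ hne h
  have h4 := geo.plane4 (P ⊔ Q) P Q hPl hP hQ le_sup_left le_sup_right rfl
  rw [← h4]
  congr 1
  ext R
  simp only [Set.mem_setOf_eq]
  constructor
  · rintro ⟨hR, hPR, hQR⟩
    exact ⟨hR, common_nbr_le_plane geo P Q R hP hQ hR hne h hPR hQR, hPR, hQR⟩
  · rintro ⟨hR, -, hPR, hQR⟩
    exact ⟨hR, hPR, hQR⟩

end Cfsg.Agent.Lib.Helper66.Zass
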