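import Mathlib
import Cfsg.Agent.Lib.Helper3.Zass.ZhDefs
import Cfsg.Agent.Lib.Helper66.Zass.ZhMu

set_option autoImplicit false

/-!
# ZASS (S0690), package [ZH-LAM]: two adjacent points have `l + 1` common neighbours
-/

namespace Cfsg.Agent.Lib.Helper66.Zass

open Cfsg.Agent.Lib.Helper51.Zass Cfsg.Agent.Lib.Helper3.Zass

universe u

/-- a point of a line other than `P` is adjacent to `P`. -/
theorem adj_of_mem_line {G : Type u} [Group G] (geo : Geo G) (L : Subgroup G) (hL : IsLine L)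
    (P R : Subgroup G) (hP : Nat.card P = 3) (hR : Nat.card R = 3) (hPL : P ≤ L) (hRL : R ≤ L)
    (hne : R ≠ P) : Nat.card ↥(P ⊔ R) = 24 := by
  rw [geo.lineGen L P R hL hP hR hPL hRL hne.symm, geo.lineCard L hL]

/-- the points of a line other than a given one: three of them. -/
theorem line_diff_card {G : Type u} [Group G] [Finite G] (geo : Geo G) (L : Subgroup G)
    (hL : IsLine L) (P : Subgroup G) (hP : Nat.card P = 3) (hPL : P ≤ L) :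
    Set.ncard ({R : Subgroup G | Nat.card R = 3 ∧ R ≤ L} \ {P}) = 3 := by
  rw [Set.ncard_sdiff_singleton_of_mem (show P ∈ {R : Subgroup G | Nat.card R = 3 ∧ R ≤ L} from
    ⟨hP, hPL⟩), geo.line4 L hL]

/-- in the plane spanned by two lines through `P`, every neighbour of `P` is on one of them. -/
theorem nbr_on_two_lines {G : Type u} [Group G] [Finite G] (geo : Geo G) (P L L' : Subgroup G)
    (hP : Nat.card P = 3) (hL : IsLine L) (hL' : IsLine L') (hPL : P ≤ L) (hPL' : P ≤ L')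
    (hne : L ≠ L') (R : Subgroup G) (hR : Nat.card R = 3) (hRPl : R ≤ L ⊔ L')
    (hadj : Nat.card ↥(P ⊔ R) = 24) : R ≤ L ∨ R ≤ L' := by
  have hPl : IsPlane (L ⊔ L') := geo.t1 P L L' hP hL hL' hPL hPL' hne
  have h6 := geo.plane6 (L ⊔ L') P hPl hP (hPL.trans le_sup_left)
  have hA : Set.ncard ({R : Subgroup G | Nat.card R = 3 ∧ R ≤ L} \ {P}) = 3 :=
    line_diff_card geo L hL P hP hPL
  have hA' : Set.ncard ({R : Subgroup G | Nat.card R = 3 ∧ R ≤ L'} \ {P}) = 3 :=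
    line_diff_card geo L' hL' P hP hPL'
  have hdisj : Disjoint ({R : Subgroup G | Nat.card R = 3 ∧ R ≤ L} \ {P})
      ({R : Subgroup G | Nat.card R = 3 ∧ R ≤ L'} \ {P}) := by
    rw [Set.disjoint_left]
    rintro X ⟨⟨hX, hXL⟩, hXP⟩ ⟨⟨-, hXL'⟩, -⟩
    have hXP' : X ≠ P := fun h => hXP (by rw [h]; rfl)
    apply hne
    rw [← geo.lineGen L P X hL hP hX hPL hXL hXP'.symm,
      ← geo.lineGen L' P X hL' hP hX hPL' hXL' hXP'.symm]
  have hsub : ({R : Subgroup G | Nat.card R = 3 ∧ R ≤ L} \ {P}) ∪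
      ({R : Subgroup G | Nat.card R = 3 ∧ R ≤ L'} \ {P}) ⊆
      {Q : Subgroup G | Nat.card Q = 3 ∧ Q ≤ L ⊔ L' ∧ Nat.card ↥(P ⊔ Q) = 24} := by
    rintro X (⟨⟨hX, hXL⟩, hXP⟩ | ⟨⟨hX, hXL'⟩, hXP⟩)
    · have hXP' : X ≠ P := fun h => hXP (by rw [h]; rfl)
      exact ⟨hX, hXL.trans le_sup_left, adj_of_mem_line geo L hL P X hP hX hPL hXL hXP'⟩
    · have hXP' : X ≠ P := fun h => hXP (by rw [h]; rfl)
      exact ⟨hX, hXL'.trans le_sup_right, adj_of_mem_line geo L' hL' P X hP hX hPL' hXL' hXP'⟩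
  have heq := Set.eq_of_subset_of_ncard_le hsub (by
    rw [Set.ncard_union_eq hdisj, hA, hA', h6])
  have hmem : R ∈ {Q : Subgroup G | Nat.card Q = 3 ∧ Q ≤ L ⊔ L' ∧ Nat.card ↥(P ⊔ Q) = 24} :=
    ⟨hR, hRPl, hadj⟩
  rw [← heq] at hmem
  rcases hmem with ⟨⟨-, h1⟩, -⟩ | ⟨⟨-, h1⟩, -⟩
  · exact Or.inl h1
  · exact Or.inr h1

/-- **[ZH-LAM]** -/
theorem pkgZhLam : PkgZhLam.{u} := by
  intro G _ _ geo P Q hP hQ hPQ
  classical
  obtain ⟨hne, hL0⟩ := isLine_of_adj geo P Q hP hQ hPQ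
  have hPL0 : P ≤ P ⊔ Q := le_sup_left
  have hQL0 : Q ≤ P ⊔ Q := le_sup_right
  have hL0mem : P ⊔ Q ∈ {L : Subgroup G | IsLine L ∧ P ≤ L} := ⟨hL0, hPL0⟩
  -- the two parts of the set of common neighbours
  have hCeq : {R : Subgroup G | Nat.card R = 3 ∧ Nat.card ↥(P ⊔ R) = 24 ∧
      Nat.card ↥(Q ⊔ R) = 24} =
      ({R : Subgroup G | Nat.card R = 3 ∧ R ≤ P ⊔ Q} \ {P, Q}) ∪
      {R : Subgroup G | (Nat.card R = 3 ∧ Nat.card ↥(P ⊔ R) = 24 ∧ Nat.card ↥(Q ⊔ R) = 24) ∧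
        ¬ R ≤ P ⊔ Q} := by
    ext R
    constructor
    · rintro ⟨hR, hPR, hQR⟩
      by_cases hRL : R ≤ P ⊔ Q
      · left
        refine ⟨⟨hR, hRL⟩, ?_⟩
        rintro (h | h)
        · rw [h] at hPR; exact sup_self_card_ne P hP hPR
        · rw [Set.mem_singleton_iff.mp h] at hQR; exact sup_self_card_ne Q hQ hQR
      · right
        exact ⟨⟨hR, hPR, hQR⟩, hRL⟩
    · rintro (⟨⟨hR, hRL⟩, hnot⟩ | ⟨h, -⟩)
      · have hRP : R ≠ P := fun h => hnot (Or.inl h)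
        have hRQ : R ≠ Q := fun h => hnot (Or.inr (Set.mem_singleton_iff.mpr h))
        exact ⟨hR, adj_of_mem_line geo _ hL0 P R hP hR hPL0 hRL hRP,
          adj_of_mem_line geo _ hL0 Q R hQ hR hQL0 hRL hRQ⟩
      · exact h
  have hdisj : Disjoint ({R : Subgroup G | Nat.card R = 3 ∧ R ≤ P ⊔ Q} \ {P, Q})
      {R : Subgroup G | (Nat.card R = 3 ∧ Nat.card ↥(P ⊔ R) = 24 ∧ Nat.card ↥(Q ⊔ R) = 24) ∧
        ¬ R ≤ P ⊔ Q} := by
    rw [Set.disjoint_left]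
    rintro R ⟨⟨-, hRL⟩, -⟩ ⟨-, hnRL⟩
    exact hnRL hRL
  have hC1 : Set.ncard ({R : Subgroup G | Nat.card R = 3 ∧ R ≤ P ⊔ Q} \ {P, Q}) = 2 := by
    have hsub : ({P, Q} : Set (Subgroup G)) ⊆ {R : Subgroup G | Nat.card R = 3 ∧ R ≤ P ⊔ Q} := by
      rintro X (h | h)
      · rw [h]; exact ⟨hP, hPL0⟩
      · rw [Set.mem_singleton_iff.mp h]; exact ⟨hQ, hQL0⟩
    rw [Set.ncard_sdiff hsub, geo.line4 _ hL0, Set.ncard_pair hne]
  -- the second part is in bijection with the lines through `P` other than `P ⊔ Q`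
  have hinj : Set.InjOn (fun R : Subgroup G => P ⊔ R)
      {R : Subgroup G | (Nat.card R = 3 ∧ Nat.card ↥(P ⊔ R) = 24 ∧ Nat.card ↥(Q ⊔ R) = 24) ∧
        ¬ R ≤ P ⊔ Q} := by
    rintro R ⟨⟨hR, hPR, hQR⟩, hnR⟩ R' ⟨⟨hR', hPR', hQR'⟩, hnR'⟩ heq
    have heq' : P ⊔ R = P ⊔ R' := heq
    obtain ⟨-, hL'⟩ := isLine_of_adj geo P R hP hR hPR
    have hneL : P ⊔ Q ≠ P ⊔ R := fun h => hnR (h ▸ le_sup_right)
    have hPl : IsPlane ((P ⊔ Q) ⊔ (P ⊔ R)) :=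
      geo.t1 P (P ⊔ Q) (P ⊔ R) hP hL0 hL' hPL0 le_sup_left hneL
    have h1 := geo.plane1 ((P ⊔ Q) ⊔ (P ⊔ R)) P Q hPl hP hQ (hPL0.trans le_sup_left)
      (hQL0.trans le_sup_left) hPQ
    obtain ⟨a, ha⟩ := Set.ncard_eq_one.mp h1
    have hRa : R ∈ ({a} : Set (Subgroup G)) := by
      rw [← ha]
      exact ⟨hR, le_sup_right.trans le_sup_right, hnR, hPR, hQR⟩
    have hR'a : R' ∈ ({a} : Set (Subgroup G)) := by
      rw [← ha]
      refine ⟨hR', ?_, hnR', hPR', hQR'⟩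
      calc R' ≤ P ⊔ R' := le_sup_right
        _ = P ⊔ R := heq'.symm
        _ ≤ (P ⊔ Q) ⊔ (P ⊔ R) := le_sup_right
    rw [Set.mem_singleton_iff.mp hRa, Set.mem_singleton_iff.mp hR'a]
  have himg : (fun R : Subgroup G => P ⊔ R) ''
      {R : Subgroup G | (Nat.card R = 3 ∧ Nat.card ↥(P ⊔ R) = 24 ∧ Nat.card ↥(Q ⊔ R) = 24) ∧
        ¬ R ≤ P ⊔ Q} = {L : Subgroup G | IsLine L ∧ P ≤ L} \ {P ⊔ Q} := by
    ext L'
    constructor
    · rintro ⟨R, ⟨⟨hR, hPR, hQR⟩, hnR⟩, rfl⟩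
      obtain ⟨-, hL'⟩ := isLine_of_adj geo P R hP hR hPR
      refine ⟨⟨hL', le_sup_left⟩, ?_⟩
      intro h
      apply hnR
      have h' : P ⊔ R = P ⊔ Q := h
      rw [← h']
      exact le_sup_right
    · rintro ⟨⟨hL', hPL'⟩, hneq⟩
      have hneL : P ⊔ Q ≠ L' := fun h => hneq (by rw [← h]; rfl)
      have hPl : IsPlane ((P ⊔ Q) ⊔ L') := geo.t1 P (P ⊔ Q) L' hP hL0 hL' hPL0 hPL' hneL
      have h1 := geo.plane1 ((P ⊔ Q) ⊔ L') P Q hPl hP hQ (hPL0.trans le_sup_left)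
        (hQL0.trans le_sup_left) hPQ
      obtain ⟨R, ha⟩ := Set.ncard_eq_one.mp h1
      have hRmem : R ∈ {R : Subgroup G | Nat.card R = 3 ∧ R ≤ (P ⊔ Q) ⊔ L' ∧ ¬ R ≤ P ⊔ Q ∧
          Nat.card ↥(P ⊔ R) = 24 ∧ Nat.card ↥(Q ⊔ R) = 24} := by
        rw [ha]; rfl
      obtain ⟨hR, hRPl, hnR, hPR, hQR⟩ := hRmem
      have hRL' : R ≤ L' := by
        rcases nbr_on_two_lines geo P (P ⊔ Q) L' hP hL0 hL' hPL0 hPL' hneL R hR hRPl hPR with h | h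
        · exact absurd h hnR
        · exact h
      obtain ⟨hPneR, -⟩ := isLine_of_adj geo P R hP hR hPR
      exact ⟨R, ⟨⟨hR, hPR, hQR⟩, hnR⟩, geo.lineGen L' P R hL' hP hR hPL' hRL' hPneR⟩
  have hC2 : Set.ncard {R : Subgroup G | (Nat.card R = 3 ∧ Nat.card ↥(P ⊔ R) = 24 ∧
      Nat.card ↥(Q ⊔ R) = 24) ∧ ¬ R ≤ P ⊔ Q} =
      Set.ncard {L : Subgroup G | IsLine L ∧ P ≤ L} - 1 := by
    rw [← Set.InjOn.ncard_image hinj, himg, Set.ncard_sdiff_singleton_of_mem hL0mem]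
  have hpos : 0 < Set.ncard {L : Subgroup G | IsLine L ∧ P ≤ L} :=
    (Set.ncard_pos).mpr ⟨_, hL0mem⟩
  rw [hCeq, Set.ncard_union_eq hdisj, hC1, hC2]
  omega

end Cfsg.Agent.Lib.Helper66.Zass
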